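import Cfsg.Agent.H531.Co1.Final
import Cfsg.Agent.H12.Co1.LocQuot
import Cfsg.Agent.H511.Co.ExistsSimple
import Cfsg.Agent.H38.Co1.CardInf
import Cfsg.Agent.H536.Nine.Final
import Cfsg.Agent.H410.Co1.Move
import Cfsg.Agent.H896.Co1.SimpleList
import Cfsg.Agent.H300.Co.Sig
import Cfsg.Agent.H300.Co.Tri
import Cfsg.Agent.H300.Co.Core
import Cfsg.Agent.H447.Co.Reg
import Cfsg.Agent.H447.Co.K

/-!
`star` and `final` without hypotheses.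
-/

set_option autoImplicit false
set_option linter.style.longLine false

namespace Cfsg.Agent.H531.Co1
open Subgroup Cfsg.Agent.H776.Co Cfsg.Agent.H776.Co.Lin

theorem depsLoc : DepsLoc where
  symm := fun h => Cfsg.Agent.H12.Co1.Loc.symm h
  quot := fun h => Cfsg.Agent.H12.Co1.Loc.quot h
  exists_simple := fun h => Cfsg.Agent.H511.Co.exists_simple h
  card_inf_ne := fun h => fun hK hs hc hz => Cfsg.Agent.H38.Co1.card_inf_ne h hK hs hc hz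
  card_inf_ne' := fun h => fun hK hs hc hz => Cfsg.Agent.H536.Nine.Loc.card_inf_ne' h hK hs hc hz
  move1 := fun h => fun hK hs hc hT => Cfsg.Agent.H410.Co1.move1_of_list
    (fun _ _ _ _ hc' T h27 hna hd => Cfsg.Agent.H896.Co1.simple_list hc' T h27 hna hd) h hK hs hc hT
  simple_list := fun hc T h27 hna hd => Cfsg.Agent.H896.Co1.simple_list hc T h27 hna hd

theorem depsLin : DepsLin where
  sig := Cfsg.Agent.H300.Co.sig
  tri := Cfsg.Agent.H300.Co.tri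
  reg := Cfsg.Agent.H447.Co.reg
  type := Cfsg.Agent.H300.Co.type
  not_conj := Cfsg.Agent.H300.Co.not_conj
  core := fun hG h1 h3 N hN hNn hp => Cfsg.Agent.H300.Co.core hG h1 h3 N hN hNn hp
  ord := fun hG => Cfsg.Agent.H300.Co.ord hG
  k_ne_one := fun hG h1 _ h2 => Cfsg.Agent.H447.Co.k_ne_one hG h1 h2

/-- **Task 3756.** -/
theorem star' {G : Subgroup L} (hG : Syl G) (h1 : ∃ g ∈ G, ∃ v, inW1 v ∧ ¬ inW1 (g v)) (h3 : ∃ g ∈ G, ∃ v, inW3 v ∧ ¬ inW3 (g v))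
    (ht : ∃ g ∈ G, ∀ v, g v = sf 1 (-1) 1 v) :
    (∃ g ∈ G, (∀ u ∈ U1, g * u * g⁻¹ ∈ U1) ∧ g * tl 0 0 1 * g⁻¹ ∉ zpowers (tl 0 0 1)) ∧
    (∃ g ∈ G, (∀ u ∈ U2, g * u * g⁻¹ ∈ U2) ∧ g * tl 0 0 1 * g⁻¹ ∉ zpowers (tl 0 0 1)) :=
  star depsLoc depsLin hG h1 h3 ht

/-- **Task 3759.** -/
theorem final' {G : Subgroup L} (hG : Syl G) (h1 : ∃ g ∈ G, ∀ v, g v = w1f v) {k : ZMod 3} (h2 : ∃ g ∈ G, ∀ v, g v = w2f k v)
    (h3 : ∃ g ∈ G, ∀ v, g v = sf 1 (-1) 1 v) :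
    ∀ g ∈ G, ∃ h ∈ Subgroup.closure ((T : Set L) ∪ {x | ∀ v, x v = w1f v} ∪ {x | ∀ v, x v = w2f k v}), ∃ n ∈ G,
      (∀ t ∈ T, n * t * n⁻¹ ∈ T) ∧ g = h * n :=
  final depsLoc depsLin hG h1 h2 h3

end Cfsg.Agent.H531.Co1
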